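import Mathlib

/-!
A function on a neighbourhood of the node `XY = ϖ` which is étale on the generic fibre has vanishing differential
on one of the two branches of the closed fibre.
-/

set_option autoImplicit false

universe u

open MvPolynomial

namespace Groth.Agent.NodeEtale

variable {V : Type u} [CommRing V] {B : Type u} [CommRing B] [Algebra V B]

/-- The substitution `X ↦ 0`, `Y ↦ t`. -/
noncomputable abbrev restr (V : Type u) [CommRing V] : MvPolynomial (Fin 2) V →ₐ[V] Polynomial V :=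
  aeval ![0, Polynomial.X]

/-- The data of a neighbourhood of the node: coordinates, the derivation `X ∂X - Y ∂Y` and one branch. -/
structure Branch (V : Type u) [CommRing V] [IsLocalRing V] (B : Type u) [CommRing B] [Algebra V B] where
  ϖ : V
  X : B
  Y : B
  rel : X * Y = algebraMap V B ϖ
  maxIdeal : IsLocalRing.maximalIdeal V = Ideal.span {ϖ}
  h₀ : MvPolynomial (Fin 2) V
  h₀_const : constantCoeff h₀ ∉ IsLocalRing.maximalIdeal V
  h₀_unit : IsUnit (aeval ![X, Y] h₀)
  gen : ∀ b : B, ∃ (p : MvPolynomial (Fin 2) V) (n : ℕ), b * aeval ![X, Y] h₀ ^ n = aeval ![X, Y] p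
  D : Derivation V B B
  DX : D X = X
  DY : D Y = -Y
  Φ : B →+* FractionRing (Polynomial (IsLocalRing.ResidueField V))
  ΦX : Φ X = 0
  ΦY : Φ Y = algebraMap _ _ (Polynomial.X : Polynomial (IsLocalRing.ResidueField V))
  ΦC : ∀ v : V, Φ (algebraMap V B v) = algebraMap _ _ (Polynomial.C (IsLocalRing.residue V v))
  Ψ : B →+* IsLocalRing.ResidueField V
  ΨX : Ψ X = 0
  ΨY : Ψ Y = 0
  ΨC : ∀ v : V, Ψ (algebraMap V B v) = IsLocalRing.residue V v

namespace Branch

variable [IsLocalRing V] (S : Branch V B)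

theorem aeval_sub_mem (p : MvPolynomial (Fin 2) V) :
    aeval ![S.X, S.Y] p - Polynomial.aeval S.Y (restr V p) ∈ Ideal.span {S.X} := by
  rw [← Ideal.Quotient.eq]
  have h : (Ideal.Quotient.mkₐ V (Ideal.span {S.X})).comp (aeval ![S.X, S.Y]) =
      (Ideal.Quotient.mkₐ V (Ideal.span {S.X})).comp ((Polynomial.aeval S.Y).comp (restr V)) := by
    refine MvPolynomial.algHom_ext fun i => ?_
    fin_cases i
    · simp only [AlgHom.comp_apply, aeval_X, Fin.zero_eta, Fin.isValue, Matrix.cons_val_zero, map_zero,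
        Ideal.Quotient.mkₐ_eq_mk, Ideal.Quotient.eq_zero_iff_mem]
      exact Ideal.mem_span_singleton_self _
    · simp [AlgHom.comp_apply]
  exact AlgHom.congr_fun h p

theorem map_aeval_Φ (q : Polynomial V) :
    S.Φ (Polynomial.aeval S.Y q) = algebraMap _ _ (q.map (IsLocalRing.residue V)) := by
  induction q using Polynomial.induction_on' with
  | add p q hp hq => simp [hp, hq]
  | monomial n v =>
    rw [Polynomial.aeval_monomial, map_mul, map_pow, S.ΦC, S.ΦY, ← map_pow, ← map_mul, Polynomial.map_monomial,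
      Polynomial.C_mul_X_pow_eq_monomial]

theorem Φ_zero_of_mem {b : B} (h : b ∈ Ideal.span {S.X}) : S.Φ b = 0 := by
  obtain ⟨c, rfl⟩ := Ideal.mem_span_singleton'.1 h
  rw [map_mul, S.ΦX, mul_zero]

theorem aeval_mem_of_map_eq_zero {q : Polynomial V} (h : q.map (IsLocalRing.residue V) = 0) :
    Polynomial.aeval S.Y q ∈ Ideal.span {S.X} := by
  rw [Polynomial.aeval_eq_sum_range]
  refine sum_mem fun i _ => ?_
  have h1 : q.coeff i ∈ IsLocalRing.maximalIdeal V := by
    rw [← IsLocalRing.residue_eq_zero_iff, ← Polynomial.coeff_map, h, Polynomial.coeff_zero]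
  rw [S.maxIdeal, Ideal.mem_span_singleton'] at h1
  obtain ⟨c, hc⟩ := h1
  rw [Algebra.smul_def, ← hc, map_mul, ← S.rel, Ideal.mem_span_singleton]
  exact Dvd.intro (algebraMap V B c * S.Y * S.Y ^ i) (by ring)

theorem restr_h₀_map_ne_zero : (restr V S.h₀).map (IsLocalRing.residue V) ≠ 0 := by
  intro h
  apply S.h₀_const
  have h1 : (restr V S.h₀).coeff 0 = constantCoeff S.h₀ := by
    have h2 : (Polynomial.constantCoeff : Polynomial V →+* V).comp (restr V).toRingHom = constantCoeff := by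
      refine MvPolynomial.ringHom_ext (fun v => by simp) fun i => ?_
      fin_cases i <;> simp
    exact RingHom.congr_fun h2 S.h₀
  rw [← IsLocalRing.residue_eq_zero_iff, ← h1, ← Polynomial.coeff_map, h, Polynomial.coeff_zero]

/-- Every element is, on the branch, a fraction of polynomials in `Y`. -/
theorem exists_fraction (b : B) : ∃ q g : Polynomial V, g.map (IsLocalRing.residue V) ≠ 0 ∧
    b * Polynomial.aeval S.Y g - Polynomial.aeval S.Y q ∈ Ideal.span {S.X} ∧
    IsUnit (Ideal.Quotient.mk (Ideal.span {S.X}) (Polynomial.aeval S.Y g)) ∧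
    IsUnit (S.Ψ (Polynomial.aeval S.Y g)) := by
  obtain ⟨p, n, hp⟩ := S.gen b
  have hg : Polynomial.aeval S.Y (restr V S.h₀ ^ n) - aeval ![S.X, S.Y] S.h₀ ^ n ∈ Ideal.span {S.X} := by
    rw [← neg_mem_iff, neg_sub, ← map_pow, ← map_pow]
    exact S.aeval_sub_mem _
  refine ⟨restr V p, restr V S.h₀ ^ n, by rw [Polynomial.map_pow]; exact pow_ne_zero _ S.restr_h₀_map_ne_zero,
    ?_, ?_, ?_⟩
  · have h1 := add_mem (Ideal.mul_mem_left (Ideal.span {S.X}) b hg) (S.aeval_sub_mem p)
    rwa [mul_sub, hp, sub_add_sub_cancel] at h1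
  · rw [Ideal.Quotient.eq.2 hg, map_pow]
    exact (S.h₀_unit.map _).pow n
  · obtain ⟨c, hc⟩ := Ideal.mem_span_singleton'.1 hg
    rw [show Polynomial.aeval S.Y (restr V S.h₀ ^ n) = aeval ![S.X, S.Y] S.h₀ ^ n + c * S.X by rw [hc]; ring,
      map_add, map_mul, S.ΨX, mul_zero, add_zero, map_pow]
    exact (S.h₀_unit.map _).pow n

theorem D_aeval (q : Polynomial V) :
    S.D (Polynomial.aeval S.Y q) = -(S.Y * Polynomial.aeval S.Y q.derivative) := by
  rw [Derivation.map_aeval, S.DY, smul_eq_mul]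
  ring

theorem D_mem {b : B} (h : b ∈ Ideal.span {S.X}) : S.D b ∈ Ideal.span {S.X} := by
  obtain ⟨c, rfl⟩ := Ideal.mem_span_singleton'.1 h
  rw [Derivation.leibniz, S.DX, smul_eq_mul, smul_eq_mul, Ideal.mem_span_singleton]
  exact Dvd.intro (c + S.D c) (by ring)

theorem D_fraction {b : B} {q g : Polynomial V}
    (h : b * Polynomial.aeval S.Y g - Polynomial.aeval S.Y q ∈ Ideal.span {S.X}) :
    S.D b * Polynomial.aeval S.Y g ^ 2 + S.Y * Polynomial.aeval S.Y (Polynomial.derivative q * g - q * Polynomial.derivative g)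
      ∈ Ideal.span {S.X} := by
  have h1 := add_mem (Ideal.mul_mem_right (Polynomial.aeval S.Y g) _ (S.D_mem h))
    (Ideal.mul_mem_left _ (S.Y * Polynomial.aeval S.Y g.derivative) h)
  rw [map_sub, Derivation.leibniz, S.D_aeval, S.D_aeval, smul_eq_mul, smul_eq_mul] at h1
  convert h1 using 1
  simp only [map_sub, map_mul]
  ring

theorem D_mem_ker (b : B) : S.Ψ (S.D b) = 0 := by
  obtain ⟨q, g, -, h, -, hu⟩ := S.exists_fraction b
  obtain ⟨c, hc⟩ := Ideal.mem_span_singleton'.1 (S.D_fraction h)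
  have h1 := congrArg S.Ψ hc
  simp only [map_add, map_mul, map_pow, S.ΨX, S.ΨY, mul_zero, zero_mul, add_zero] at h1
  exact ((hu.pow 2).mul_left_eq_zero).1 h1.symm

theorem wronskian_map_eq_zero {b : B} {q g : Polynomial V}
    (h : b * Polynomial.aeval S.Y g - Polynomial.aeval S.Y q ∈ Ideal.span {S.X})
    (hD : S.D b ∈ Ideal.span {S.X}) :
    (Polynomial.derivative q * g - q * Polynomial.derivative g).map (IsLocalRing.residue V) = 0 := by
  have h1 := S.Φ_zero_of_mem (S.D_fraction h)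
  rw [map_add, map_mul, S.Φ_zero_of_mem hD, zero_mul, zero_add, map_mul, S.ΦY, S.map_aeval_Φ, ← map_mul,
    map_eq_zero_iff _ (IsFractionRing.injective _ _)] at h1
  exact (mul_eq_zero.1 h1).resolve_left Polynomial.X_ne_zero

/-- If `D b` vanishes on the branch, so does the differential of `b`. -/
theorem d_eq_zero {b : B} (hD : S.D b ∈ Ideal.span {S.X}) :
    KaehlerDifferential.D V (B ⧸ Ideal.span {S.X}) (Ideal.Quotient.mk _ b) = 0 := by
  obtain ⟨q, g, -, h, hu, -⟩ := S.exists_fraction b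
  have hW : Polynomial.aeval (Ideal.Quotient.mk (Ideal.span {S.X}) S.Y)
      (Polynomial.derivative q * g - q * Polynomial.derivative g) = 0 := by
    rw [← Ideal.Quotient.mkₐ_eq_mk V, Polynomial.aeval_algHom_apply, Ideal.Quotient.mkₐ_eq_mk,
      Ideal.Quotient.eq_zero_iff_mem]
    exact S.aeval_mem_of_map_eq_zero (S.wronskian_map_eq_zero h hD)
  set β := Ideal.Quotient.mk (Ideal.span {S.X}) b
  set y := Ideal.Quotient.mk (Ideal.span {S.X}) S.Y
  have hq : ∀ p : Polynomial V, Ideal.Quotient.mk (Ideal.span {S.X}) (Polynomial.aeval S.Y p) = Polynomial.aeval y p :=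
    fun p => (Polynomial.aeval_algHom_apply (Ideal.Quotient.mkₐ V (Ideal.span {S.X})) S.Y p).symm
  have he : β * Polynomial.aeval y g = Polynomial.aeval y q := by
    rw [← hq, ← hq, ← map_mul, Ideal.Quotient.eq]
    exact h
  have hd := congrArg (KaehlerDifferential.D V (B ⧸ Ideal.span {S.X})) he
  rw [Derivation.leibniz, Derivation.map_aeval, Derivation.map_aeval, smul_smul] at hd
  have h2 : (Polynomial.aeval y g ^ 2) • KaehlerDifferential.D V (B ⧸ Ideal.span {S.X}) β = 0 := by
    have h3 : Polynomial.aeval y g • KaehlerDifferential.D V (B ⧸ Ideal.span {S.X}) β =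
        (Polynomial.aeval y (Polynomial.derivative q) - β * Polynomial.aeval y (Polynomial.derivative g)) •
          KaehlerDifferential.D V (B ⧸ Ideal.span {S.X}) y := by
      rw [sub_smul, ← hd]; abel
    rw [pow_two, mul_smul, h3, smul_smul]
    convert zero_smul (B ⧸ Ideal.span {S.X}) (KaehlerDifferential.D V (B ⧸ Ideal.span {S.X}) y) using 2
    rw [map_sub, map_mul, map_mul, ← he] at hW
    linear_combination hW
  rw [hq] at hu
  exact (hu.pow 2).smul_eq_zero.1 h2

theorem exists_smul_of_wronskian_eq_zero {k : Type u} [Field k] [CharZero k] {a g : Polynomial k} (hg : g ≠ 0)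
    (h : Polynomial.wronskian g a = 0) : ∃ c : k, a = Polynomial.C c * g := by
  classical
  obtain ⟨a', g', hco, ha, hg'⟩ : ∃ a' g', IsCoprime g' a' ∧ a = gcd g a * a' ∧ g = gcd g a * g' := by
    obtain ⟨g', a', hg', ha', hu⟩ := extract_gcd g a
    exact ⟨a', g', (gcd_isUnit_iff _ _).1 hu, ha', hg'⟩
  have hd0 : gcd g a ≠ 0 := fun h0 => hg (by rw [hg', h0, zero_mul])
  have hw : Polynomial.wronskian g' a' = 0 := by
    have h1 : gcd g a ^ 2 * Polynomial.wronskian g' a' = Polynomial.wronskian g a := by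
      conv_rhs => rw [hg']; arg 2; rw [ha]
      simp only [Polynomial.wronskian, Polynomial.derivative_mul]
      ring
    rw [h] at h1
    exact (mul_eq_zero.1 h1).resolve_left (pow_ne_zero _ hd0)
  obtain ⟨h1, h2⟩ := hco.wronskian_eq_zero_iff.1 hw
  rw [Polynomial.eq_C_of_derivative_eq_zero h2] at ha
  rw [Polynomial.eq_C_of_derivative_eq_zero h1] at hg'
  have hc : g'.coeff 0 ≠ 0 := fun h0 => hg (by rw [hg', h0, map_zero, mul_zero])
  refine ⟨a'.coeff 0 / g'.coeff 0, ?_⟩
  rw [ha]
  conv_rhs => rw [hg']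
  rw [mul_left_comm, ← map_mul, div_mul_cancel₀ _ hc]

/-- In residue characteristic zero, such an element is constant on the branch. -/
theorem exists_sub_const_mem [CharZero (IsLocalRing.ResidueField V)] {b : B} (hD : S.D b ∈ Ideal.span {S.X}) :
    ∃ v : V, b - algebraMap V B v ∈ Ideal.span {S.X} := by
  obtain ⟨q, g, hg, h, hu, -⟩ := S.exists_fraction b
  obtain ⟨c, hc⟩ := exists_smul_of_wronskian_eq_zero (a := q.map (IsLocalRing.residue V)) hg (by
    rw [← S.wronskian_map_eq_zero h hD]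
    simp only [Polynomial.wronskian, Polynomial.derivative_map, Polynomial.map_sub, Polynomial.map_mul]
    ring)
  obtain ⟨v, rfl⟩ := IsLocalRing.residue_surjective c
  refine ⟨v, ?_⟩
  have h1 := S.aeval_mem_of_map_eq_zero (q := q - Polynomial.C v * g) (by simp [hc])
  rw [map_sub, map_mul, Polynomial.aeval_C] at h1
  have h2 := add_mem h h1
  rw [sub_add_sub_cancel, ← sub_mul, ← Ideal.Quotient.eq_zero_iff_mem, map_mul] at h2
  rw [← Ideal.Quotient.eq_zero_iff_mem]
  exact hu.mul_left_eq_zero.1 h2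

/-- The branch is the kernel of its parametrization. -/
theorem mem_span_iff {x : B} : x ∈ Ideal.span {S.X} ↔ S.Φ x = 0 := by
  refine ⟨S.Φ_zero_of_mem, fun hx => ?_⟩
  obtain ⟨q, g, -, h, hu, -⟩ := S.exists_fraction x
  have h1 := S.Φ_zero_of_mem h
  rw [map_sub, map_mul, hx, zero_mul, zero_sub, neg_eq_zero, S.map_aeval_Φ,
    map_eq_zero_iff _ (IsFractionRing.injective _ _)] at h1
  have h2 := add_mem h (S.aeval_mem_of_map_eq_zero h1)
  rw [sub_add_cancel, ← Ideal.Quotient.eq_zero_iff_mem, map_mul] at h2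
  rw [← Ideal.Quotient.eq_zero_iff_mem]
  exact hu.mul_left_eq_zero.1 h2

/-- In residue characteristic zero the map to the line contracts the branch. -/
theorem not_quasiFinite [CharZero (IsLocalRing.ResidueField V)] {b : B} (hD : S.D b ∈ Ideal.span {S.X}) :
    ¬ (Polynomial.aeval b : Polynomial V →ₐ[V] B).toRingHom.QuasiFinite := by
  intro hqf
  obtain ⟨v, hv⟩ := S.exists_sub_const_mem hD
  letI := (Polynomial.aeval b : Polynomial V →ₐ[V] B).toRingHom.toAlgebra
  haveI : Algebra.QuasiFinite (Polynomial V) B := hqf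
  haveI : (RingHom.ker S.Φ).IsPrime := RingHom.ker_isPrime _
  haveI : (RingHom.ker S.Ψ).IsPrime := RingHom.ker_isPrime _
  have hΦ : ∀ x : B, S.Φ x = 0 → x ∈ Ideal.span {S.X} := fun x => S.mem_span_iff.2
  have hle : RingHom.ker S.Φ ≤ RingHom.ker S.Ψ := fun x hx => by
    obtain ⟨c, rfl⟩ := Ideal.mem_span_singleton'.1 (hΦ x hx)
    rw [RingHom.mem_ker, map_mul, S.ΨX, mul_zero]
  have hsame : (RingHom.ker S.Φ).under (Polynomial V) = (RingHom.ker S.Ψ).under (Polynomial V) := by
    refine le_antisymm (Ideal.comap_mono hle) fun p hp => ?_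
    rw [Ideal.mem_comap, RingHom.mem_ker] at hp ⊢
    have hpv : algebraMap (Polynomial V) B p - algebraMap V B (p.eval v) ∈ Ideal.span {S.X} := by
      obtain ⟨c, hc⟩ : (b - algebraMap V B v) ∣ Polynomial.aeval b p - Polynomial.aeval (algebraMap V B v) p :=
        by simpa only [Polynomial.eval_map_algebraMap] using Polynomial.sub_dvd_eval_sub b (algebraMap V B v) (p.map (algebraMap V B))
      rw [show algebraMap (Polynomial V) B p = Polynomial.aeval b p from rfl,
        ← Polynomial.aeval_algebraMap_apply_eq_algebraMap_eval, hc]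
      exact Ideal.mul_mem_right _ _ hv
    obtain ⟨c, hc⟩ := Ideal.mem_span_singleton'.1 hpv
    have h0 : IsLocalRing.residue V (p.eval v) = 0 := by
      have h1 := congrArg S.Ψ hc
      rw [map_mul, S.ΨX, mul_zero, map_sub, hp, S.ΨC, zero_sub] at h1
      exact neg_eq_zero.1 h1.symm
    have h1 := congrArg S.Φ hc
    rw [map_mul, S.ΦX, mul_zero, map_sub, S.ΦC, h0, map_zero, map_zero, sub_zero] at h1
    exact h1.symm
  have heq := Algebra.QuasiFinite.eq_of_le_of_under_eq (R := Polynomial V) _ _ hle hsame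
  have hY : S.Y ∈ RingHom.ker S.Φ := heq ▸ S.ΨY
  rw [RingHom.mem_ker, S.ΦY, map_eq_zero_iff _ (IsFractionRing.injective _ _)] at hY
  exact Polynomial.X_ne_zero hY

end Branch

/-- Étale on the locus where `ϖ` is invertible: the derivative is a unit there. -/
theorem exists_mul_eq_pow (ϖ : V) (D : Derivation V B B) (X : B) (hX : D X = X) (hXϖ : X ∣ algebraMap V B ϖ) (f : B)
    (hf : ((algebraMap B (Localization.Away (algebraMap V B ϖ))).comp
      (Polynomial.aeval f : Polynomial V →ₐ[V] B).toRingHom).Etale) :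
    ∃ (c : B) (N : ℕ), D f * c = algebraMap V B ϖ ^ N := by
  set L := Localization.Away (algebraMap V B ϖ)
  suffices h : IsUnit (algebraMap B L (D f)) by
    obtain ⟨y, hy⟩ := h.exists_right_inv
    obtain ⟨⟨c, ⟨_, n, rfl⟩⟩, hc⟩ := IsLocalization.surj (Submonoid.powers (algebraMap V B ϖ)) y
    obtain ⟨⟨_, m, rfl⟩, hm⟩ := (IsLocalization.eq_iff_exists (Submonoid.powers (algebraMap V B ϖ)) L
      (x := D f * c) (y := algebraMap V B ϖ ^ n)).1 (by rw [map_mul, ← hc, ← mul_assoc, hy, one_mul])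
    refine ⟨algebraMap V B ϖ ^ m * c, m + n, ?_⟩
    simp only at hm
    rw [pow_add, ← hm]
    ring
  by_contra h
  obtain ⟨M, hM, hfM⟩ := exists_max_ideal_of_mem_nonunits h
  haveI : Nontrivial (L ⧸ M) := Ideal.Quotient.nontrivial_iff.2 hM.ne_top
  letI : Algebra (Polynomial V) L :=
    ((algebraMap B L).comp (Polynomial.aeval f : Polynomial V →ₐ[V] B).toRingHom).toAlgebra
  haveI : Algebra.Etale (Polynomial V) L := hf
  let π : B →+* (L ⧸ M) := (Ideal.Quotient.mk M).comp (algebraMap B L)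
  let θ : B →+* DualNumber (L ⧸ M) :=
    { toFun := fun x => TrivSqZeroExt.inl (π x) + TrivSqZeroExt.inr (π (D x))
      map_one' := by simp
      map_zero' := by simp
      map_mul' := fun x y => by
        refine TrivSqZeroExt.ext ?_ ?_
        · simp
        · simp [Derivation.leibniz, mul_comm]
      map_add' := fun x y => by
        refine TrivSqZeroExt.ext ?_ ?_ <;> simp }
  have hθu : ∀ z : Submonoid.powers (algebraMap V B ϖ), IsUnit (θ z) := by
    rintro ⟨_, n, rfl⟩
    rw [map_pow]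
    refine IsUnit.pow _ (TrivSqZeroExt.isUnit_iff_isUnit_fst.2 ?_)
    rw [show (θ (algebraMap V B ϖ)).fst = π (algebraMap V B ϖ) by simp [θ]]
    exact (IsLocalization.Away.algebraMap_isUnit (S := L) (algebraMap V B ϖ)).map (Ideal.Quotient.mk M)
  let θ' : L →+* DualNumber (L ⧸ M) := IsLocalization.lift (P := DualNumber (L ⧸ M)) (S := L) (M := Submonoid.powers (algebraMap V B ϖ)) (g := θ) hθu
  let ι : L →+* DualNumber (L ⧸ M) := (TrivSqZeroExt.inlHom (L ⧸ M) (L ⧸ M)).comp (Ideal.Quotient.mk M)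
  letI : Algebra (Polynomial V) (DualNumber (L ⧸ M)) := RingHom.toAlgebra (S := DualNumber (L ⧸ M)) (ι.comp (algebraMap (Polynomial V) L))
  have hθP : θ'.comp (algebraMap (Polynomial V) L) = ι.comp (algebraMap (Polynomial V) L) := by
    refine Polynomial.ringHom_ext (fun v => ?_) ?_
    · simp only [RingHom.comp_apply, RingHom.algebraMap_toAlgebra, AlgHom.toRingHom_eq_coe, RingHom.coe_coe,
        Polynomial.aeval_C, θ', IsLocalization.lift_eq]
      simp [θ, ι, π]
    · simp only [RingHom.comp_apply, RingHom.algebraMap_toAlgebra, AlgHom.toRingHom_eq_coe, RingHom.coe_coe,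
        Polynomial.aeval_X, θ', IsLocalization.lift_eq]
      have h0 : π (D f) = 0 := Ideal.Quotient.eq_zero_iff_mem.2 hfM
      exact TrivSqZeroExt.ext (by simp [θ, ι, π]) (by simp [θ, ι, h0])
  let g₁ : L →ₐ[Polynomial V] DualNumber (L ⧸ M) := { θ' with commutes' := fun p => RingHom.congr_fun hθP p }
  let g₂ : L →ₐ[Polynomial V] DualNumber (L ⧸ M) := { ι with commutes' := fun _ => rfl }
  have hfst : (TrivSqZeroExt.fstHom (L ⧸ M) (L ⧸ M) (L ⧸ M)).toRingHom.comp θ' = (TrivSqZeroExt.fstHom (L ⧸ M) (L ⧸ M) (L ⧸ M)).toRingHom.comp ι := by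
    refine IsLocalization.ringHom_ext (Submonoid.powers (algebraMap V B ϖ)) (RingHom.ext fun x => ?_)
    simp [θ', IsLocalization.lift_eq, θ, ι, π]
  have hnil : IsNilpotent (RingHom.ker (TrivSqZeroExt.fstHom (L ⧸ M) (L ⧸ M) (L ⧸ M)).toRingHom) := by
    refine ⟨1 + 1, ?_⟩
    rw [Submodule.pow_succ, Submodule.pow_one]
    refine le_antisymm (Ideal.mul_le.2 fun x hx y hy => ?_) bot_le
    simp only [RingHom.mem_ker, AlgHom.toRingHom_eq_coe, RingHom.coe_coe, TrivSqZeroExt.fstHom_apply] at hx hy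
    refine (Submodule.mem_bot _).2 (TrivSqZeroExt.ext ?_ ?_) <;> simp [hx, hy]
  have h12 := Algebra.FormallyUnramified.ext' (R := Polynomial V) (A := L) (B := DualNumber (L ⧸ M)) (C := L ⧸ M)
    (TrivSqZeroExt.fstHom (L ⧸ M) (L ⧸ M) (L ⧸ M)).toRingHom hnil g₁ g₂ fun x => RingHom.congr_fun hfst x
  have h0 := congrArg TrivSqZeroExt.snd (AlgHom.congr_fun h12 (algebraMap B L X))
  have hu : IsUnit (π X) := isUnit_of_dvd_unit (map_dvd π hXϖ)
    ((IsLocalization.Away.algebraMap_isUnit (S := L) (algebraMap V B ϖ)).map (Ideal.Quotient.mk M))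
  apply hu.ne_zero
  change TrivSqZeroExt.snd (θ' (algebraMap B L X)) = TrivSqZeroExt.snd (ι (algebraMap B L X)) at h0
  rw [show θ' (algebraMap B L X) = θ X from IsLocalization.lift_eq hθu X] at h0
  simpa [θ, ι, hX] using h0

/-- One of the two branches. -/
theorem mem_or_mem {a c X Y : B} {N : ℕ} (hX : IsSMulRegular B X) (hY : IsSMulRegular B Y)
    (pX : ∀ x y, x * y ∈ Ideal.span {X} → x ∈ Ideal.span {X} ∨ y ∈ Ideal.span {X})
    (pY : ∀ x y, x * y ∈ Ideal.span {Y} → x ∈ Ideal.span {Y} ∨ y ∈ Ideal.span {Y})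
    (h : a * c = (X * Y) ^ N) (ha : ¬ IsUnit a) : a ∈ Ideal.span {X} ∨ a ∈ Ideal.span {Y} := by
  by_contra hcon
  push Not at hcon
  induction N generalizing c with
  | zero => exact ha (isUnit_iff_exists_inv.2 ⟨c, by simpa using h⟩)
  | succ N ih =>
    obtain ⟨c₁, rfl⟩ : ∃ c₁, c₁ * X = c := by
      refine Ideal.mem_span_singleton'.1 ((pX a c ?_).resolve_left hcon.1)
      rw [h, pow_succ', mul_assoc]
      exact Ideal.mul_mem_right _ _ (Ideal.mem_span_singleton_self X)
    have h1 : a * c₁ = Y * (X * Y) ^ N := hX (by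
      change X * (a * c₁) = X * (Y * (X * Y) ^ N)
      linear_combination h)
    obtain ⟨c₂, rfl⟩ : ∃ c₂, c₂ * Y = c₁ := by
      refine Ideal.mem_span_singleton'.1 ((pY a c₁ ?_).resolve_left hcon.2)
      rw [h1]
      exact Ideal.mul_mem_right _ _ (Ideal.mem_span_singleton_self Y)
    exact ih (c := c₂) (hY (by
      change Y * (a * c₂) = Y * (X * Y) ^ N
      linear_combination h1))

end Groth.Agent.NodeEtale
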